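import Mathlib.RingTheory.SimpleModule.WedderburnArtin
import Mathlib.RingTheory.Jacobson.Semiprimary
import Mathlib.RingTheory.Length
import Mathlib.Algebra.Module.Torsion.Basic
import Mathlib.Algebra.Module.Projective
import Mathlib.RingTheory.Ideal.Quotient.Operations

/-!
# Projective modules over strongly local rings are determined by their endomorphism rings
-/

universe u v

open Function

namespace Groth.Agent.TwShAlg

/-- A semisimple module admitting as many orthogonal non-zero idempotents as `m` has length at least `m`. -/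
theorem le_length_of_idempotents {B : Type*} [Ring B] {W : Type*} [AddCommGroup W] [Module B W] {m : ℕ}
    (q : Fin m → Module.End B W) (h0 : ∀ i, q i ≠ 0) (hi : ∀ i, q i * q i = q i)
    (ho : ∀ i j, i ≠ j → q i * q j = 0) : (m : ℕ∞) ≤ Module.length B W := by
  classical
  let s : (Π i, LinearMap.range (q i)) →ₗ[B] W :=
    ∑ i, (LinearMap.range (q i)).subtype ∘ₗ LinearMap.proj i
  have hqs : ∀ (x : Π i, LinearMap.range (q i)) (i : Fin m), q i (s x) = (x i : W) := by
    intro x i
    simp only [s, LinearMap.coe_sum, Finset.sum_apply, LinearMap.coe_comp, comp_apply, LinearMap.coe_proj,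
      eval, Submodule.coe_subtype, map_sum]
    rw [Finset.sum_eq_single i]
    · obtain ⟨w, hw⟩ := (x i).2
      rw [← hw, ← Module.End.mul_apply, hi]
    · intro j _ hj
      obtain ⟨w, hw⟩ := (x j).2
      rw [← hw, ← Module.End.mul_apply, ho i j (Ne.symm hj), LinearMap.zero_apply]
    · simp
  have hs : Injective s := fun x y h => funext fun i => Subtype.ext (by rw [← hqs, h, hqs])
  refine le_trans ?_ (Module.length_le_of_injective s hs)
  rw [Module.length_pi_of_fintype]
  calc (m : ℕ∞) = ∑ _i : Fin m, (1 : ℕ∞) := by simp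
    _ ≤ _ := Finset.sum_le_sum fun i _ => by
      have : Nontrivial (LinearMap.range (q i)) := Submodule.nontrivial_iff_ne_bot.2
        fun h => h0 i (LinearMap.range_eq_bot.1 h)
      exact Order.one_le_iff_pos.2 Module.length_pos

/-- Over a simple Artinian ring modules with isomorphic endomorphism rings are isomorphic. -/
theorem nonempty_linearEquiv_of_end {B : Type*} [Ring B] [IsSimpleRing B] [IsArtinianRing B]
    {V : Type*} {W : Type*} [AddCommGroup V] [Module B V] [Module.Finite B V] [AddCommGroup W] [Module B W]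
    [Module.Finite B W] (ψ : Module.End B V ≃+* Module.End B W) : Nonempty (V ≃ₗ[B] W) := by
  classical
  obtain ⟨L, hL⟩ := IsAtomic.exists_atom (Submodule B B)
  rw [← isSimpleModule_iff_isAtom] at hL
  have htype : ∀ (M : Type _) [AddCommGroup M] [Module B M], IsIsotypicOfType B M L := by
    intro M _ _ N hN
    obtain ⟨I, ⟨e⟩⟩ := IsSemisimpleRing.exists_linearEquiv_ideal_of_isSimpleModule B N
    have := IsSimpleModule.congr e.symm
    exact ⟨e.trans (IsSimpleRing.isIsotypic B B L I).some⟩
  obtain ⟨m, ⟨eV⟩⟩ := (htype V).linearEquiv_fun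
  have htype' : ∀ N : Submodule B W, IsSimpleModule B N → Nonempty (N ≃ₗ[B] L) := by
    intro N hN
    obtain ⟨I, ⟨e⟩⟩ := IsSemisimpleRing.exists_linearEquiv_ideal_of_isSimpleModule B N
    have := IsSimpleModule.congr e.symm
    exact ⟨e.trans (IsSimpleRing.isIsotypic B B L I).some⟩
  obtain ⟨n, ⟨eW⟩⟩ := IsIsotypicOfType.linearEquiv_fun (R := B) (M := W) (S := L) fun N hN => htype' N hN
  have hlen : ∀ {X : Type _} [AddCommGroup X] [Module B X] (k : ℕ), (X ≃ₗ[B] (Fin k → L)) →
      Module.length B X = k := fun k e => by simp [e.length_eq, Module.length_pi_of_fintype]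
  have hlenW : Module.length B W = n := by simp [eW.length_eq, Module.length_pi_of_fintype]
  have hlenV := hlen m eV
  have : Nontrivial L := IsSimpleModule.nontrivial B L
  obtain ⟨l, hl⟩ := exists_ne (0 : L)
  -- idempotents on both sides
  let pV : Fin m → Module.End B V := fun i =>
    eV.symm.toLinearMap ∘ₗ (LinearMap.single B (fun _ => L) i ∘ₗ LinearMap.proj i) ∘ₗ eV.toLinearMap
  let pW : Fin n → Module.End B W := fun i =>
    eW.symm.toLinearMap ∘ₗ (LinearMap.single B (fun _ => L) i ∘ₗ LinearMap.proj i) ∘ₗ eW.toLinearMap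
  have hV0 : ∀ i, pV i ≠ 0 := fun i h => hl (by
    simpa [pV] using congrArg (fun v => eV v i) (LinearMap.congr_fun h (eV.symm (Pi.single i l))))
  have hW0 : ∀ i, pW i ≠ 0 := fun i h => hl (by
    simpa [pW] using congrArg (fun v => eW v i) (LinearMap.congr_fun h (eW.symm (Pi.single i l))))
  have hVi : ∀ i, pV i * pV i = pV i := fun i => by ext v; simp [pV]
  have hWi : ∀ i, pW i * pW i = pW i := fun i => by ext v; simp [pW]
  have hVo : ∀ i j, i ≠ j → pV i * pV j = 0 := fun i j hij => by ext v; simp [pV, hij]
  have hWo : ∀ i j, i ≠ j → pW i * pW j = 0 := fun i j hij => by ext v; simp [pW, hij]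
  have h1 := le_length_of_idempotents (fun i => ψ (pV i)) (fun i h => hV0 i (map_eq_zero_iff _ ψ.injective |>.1 h))
    (fun i => by rw [← map_mul, hVi]) (fun i j hij => by rw [← map_mul, hVo i j hij, map_zero])
  have h2 := le_length_of_idempotents (fun i => ψ.symm (pW i))
    (fun i h => hW0 i (map_eq_zero_iff _ ψ.symm.injective |>.1 h))
    (fun i => by rw [← map_mul, hWi]) (fun i j hij => by rw [← map_mul, hWo i j hij, map_zero])
  rw [hlenW, Nat.cast_le] at h1
  rw [hlenV, Nat.cast_le] at h2
  obtain rfl : m = n := le_antisymm h1 h2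
  exact ⟨eV.trans eW.symm⟩

variable {A : Type u} [Ring A] {P : Type v} [AddCommGroup P] [Module A P]

local notation "J" => Ring.jacobson A

theorem mk_smul_quot (a : A) (x : P ⧸ J • (⊤ : Submodule A P)) : Ideal.Quotient.mk J a • x = a • x :=
  rfl

/-- Reduction of one endomorphism modulo the Jacobson radical. -/
noncomputable def redMap (f : Module.End A P) : Module.End (A ⧸ J) (P ⧸ J • (⊤ : Submodule A P)) where
  toFun := Submodule.mapQ _ _ f (Submodule.smul_top_le_comap_smul_top J f)
  map_add' := map_add _
  map_smul' b x := by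
    obtain ⟨a, rfl⟩ := Ideal.Quotient.mk_surjective b
    rw [mk_smul_quot, RingHom.id_apply, mk_smul_quot, map_smul]

theorem redMap_mk (f : Module.End A P) (x : P) :
    redMap f (Submodule.Quotient.mk x) = Submodule.Quotient.mk (f x) := rfl

/-- Reduction of endomorphisms modulo the Jacobson radical. -/
noncomputable def redEnd : Module.End A P →+* Module.End (A ⧸ J) (P ⧸ J • (⊤ : Submodule A P)) where
  toFun := redMap
  map_one' := LinearMap.ext fun x => Submodule.Quotient.induction_on _ x fun y => redMap_mk _ _
  map_zero' := LinearMap.ext fun x => Submodule.Quotient.induction_on _ x fun y => redMap_mk _ _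
  map_mul' f g := LinearMap.ext fun x => Submodule.Quotient.induction_on _ x fun y => by
    rw [Module.End.mul_apply, redMap_mk, redMap_mk, redMap_mk, Module.End.mul_apply]
  map_add' f g := LinearMap.ext fun x => Submodule.Quotient.induction_on _ x fun y => by
    rw [LinearMap.add_apply, redMap_mk, redMap_mk, redMap_mk, LinearMap.add_apply, Submodule.Quotient.mk_add]

theorem redEnd_apply_mk (f : Module.End A P) (x : P) :
    redEnd f (Submodule.Quotient.mk x) = Submodule.Quotient.mk (f x) := rfl

theorem redEnd_surjective [Module.Projective A P] : Surjective (redEnd (A := A) (P := P)) := by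
  intro h
  let h' : P →ₗ[A] P ⧸ J • (⊤ : Submodule A P) :=
    { toFun := fun x => h (Submodule.Quotient.mk x)
      map_add' := fun x y => by rw [Submodule.Quotient.mk_add, map_add]
      map_smul' := fun a x => by
        rw [Submodule.Quotient.mk_smul, ← mk_smul_quot, map_smul, mk_smul_quot]
        rfl }
  obtain ⟨f, hf⟩ := Module.projective_lifting_property (J • (⊤ : Submodule A P)).mkQ h' (Submodule.mkQ_surjective _)
  refine ⟨f, LinearMap.ext fun x => ?_⟩
  obtain ⟨x, rfl⟩ := Submodule.Quotient.mk_surjective _ x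
  rw [redEnd_apply_mk]
  exact LinearMap.congr_fun hf x

theorem bijective_of_sub_mem [Module.Finite A P] [Module.Projective A P] (f : Module.End A P)
    (hf : ∀ x, f x - x ∈ J • (⊤ : Submodule A P)) : Bijective f := by
  have hs : Surjective f := by
    rw [← LinearMap.range_eq_top, ← Submodule.Quotient.subsingleton_iff]
    by_contra hne
    rw [not_subsingleton_iff_nontrivial] at hne
    refine (Submodule.jacobson_smul_lt_top (⊤ : Submodule A (P ⧸ LinearMap.range f))).ne (top_unique fun y _ => ?_)
    obtain ⟨x, rfl⟩ := Submodule.mkQ_surjective _ y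
    have h := Submodule.mem_map_of_mem (f := (LinearMap.range f).mkQ) (hf x)
    rw [Submodule.map_smul'', Submodule.map_top, Submodule.range_mkQ, map_sub, Submodule.mkQ_apply,
      (Submodule.Quotient.mk_eq_zero _).2 (LinearMap.mem_range_self f x), zero_sub, neg_mem_iff] at h
    exact h
  obtain ⟨g, hg⟩ := Module.projective_lifting_property f LinearMap.id hs
  have hg' : ∀ x, f (g x) = x := fun x => LinearMap.congr_fun hg x
  let p : Module.End A P := LinearMap.id - g ∘ₗ f
  have hp : ∀ x ∈ LinearMap.ker f, p x = x := fun x hx => by simp [p, LinearMap.mem_ker.1 hx]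
  have hrange : LinearMap.range p = LinearMap.ker f := by
    refine le_antisymm ?_ fun x hx => ⟨x, hp x hx⟩
    rintro _ ⟨x, rfl⟩
    simp [p, hg']
  have hfg : (LinearMap.ker f).FG := by
    rw [← hrange, LinearMap.range_eq_map]
    exact Module.Finite.fg_top.map p
  have hker : LinearMap.ker f = ⊥ := hfg.eq_bot_of_le_jacobson_smul fun x hx => by
    have h := hf x
    rw [LinearMap.mem_ker.1 hx, zero_sub, neg_mem_iff] at h
    have h' := Submodule.mem_map_of_mem (f := p) h
    rwa [Submodule.map_smul'', Submodule.map_top, hrange, hp x hx] at h'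
  exact ⟨LinearMap.ker_eq_bot.1 hker, hs⟩

variable [IsSimpleRing (A ⧸ Ring.jacobson A)] [IsArtinianRing (A ⧸ Ring.jacobson A)]

theorem finite_quot [Module.Finite A P] : Module.Finite (A ⧸ J) (P ⧸ J • (⊤ : Submodule A P)) :=
  Module.Finite.of_surjective
    ({ toFun := (J • (⊤ : Submodule A P)).mkQ
       map_add' := map_add _
       map_smul' := fun _ _ => rfl } : P →ₛₗ[Ideal.Quotient.mk J] P ⧸ J • (⊤ : Submodule A P))
    (Submodule.mkQ_surjective _)

theorem ker_redEnd [Module.Finite A P] [Module.Projective A P] :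
    RingHom.ker (redEnd (A := A) (P := P)) = Ring.jacobson (Module.End A P) := by
  refine le_antisymm (fun k hk => ?_) ?_
  · rw [Ring.jacobson_eq_sInf_isMaximal, Ideal.mem_sInf]
    intro m hm
    by_contra hkm
    obtain ⟨a, ha, b, hb, hab⟩ := Submodule.mem_sup.1 (show (1 : Module.End A P) ∈ m ⊔ RingHom.ker redEnd from
      (hm.1.2 _ (lt_of_le_of_ne le_sup_left fun h => hkm (h ▸ Submodule.mem_sup_right hk))).symm ▸ Submodule.mem_top)
    have ha' : Bijective a := bijective_of_sub_mem a fun x => by
      have h := LinearMap.congr_fun (RingHom.mem_ker.1 hb) (Submodule.Quotient.mk x)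
      rw [redEnd_apply_mk, LinearMap.zero_apply] at h
      have h' : b x ∈ J • (⊤ : Submodule A P) := (Submodule.Quotient.mk_eq_zero _).1 h
      have hh : a x + b x = x := LinearMap.congr_fun hab x
      rw [show a x - x = -(b x) by rw [sub_eq_iff_eq_add, neg_add_eq_sub, eq_sub_iff_add_eq, hh]]
      exact neg_mem h'
    exact hm.ne_top (Ideal.eq_top_of_isUnit_mem _ ha ((Module.End.isUnit_iff _).2 ha'))
  · have := finite_quot (A := A) (P := P)
    have : IsSemisimpleRing (Module.End (A ⧸ J) (P ⧸ J • (⊤ : Submodule A P))) := IsSemisimpleRing.moduleEnd _ _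
    have : RingHomSurjective (redEnd (A := A) (P := P)) := ⟨redEnd_surjective⟩
    intro k hk
    have := Ring.le_comap_jacobson (redEnd (A := A) (P := P)) hk
    exact (Submodule.mem_bot _).1 ((IsSemisimpleRing.jacobson_eq_bot _).le (Ideal.mem_comap.1 this))

/-- Finite projective modules over a strongly local ring with isomorphic endomorphism rings are isomorphic. -/
theorem nonempty_linearEquiv_of_ringEquiv_end {Q : Type v} [AddCommGroup Q] [Module A Q] [Module.Finite A P]
    [Module.Projective A P] [Module.Finite A Q] [Module.Projective A Q]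
    (e : Module.End A P ≃+* Module.End A Q) : Nonempty (P ≃ₗ[A] Q) := by
  have : RingHomSurjective e.toRingHom := ⟨e.surjective⟩
  have : RingHomSurjective e.symm.toRingHom := ⟨e.symm.surjective⟩
  have hJ : Ideal.map e.toRingHom (RingHom.ker (redEnd (A := A) (P := P))) = RingHom.ker (redEnd (A := A) (P := Q)) := by
    rw [ker_redEnd, ker_redEnd]
    refine le_antisymm (Ideal.map_le_iff_le_comap.2 (Ring.le_comap_jacobson e.toRingHom)) fun y hy => ?_
    have := Ring.le_comap_jacobson e.symm.toRingHom hy
    exact (Ideal.mem_map_iff_of_surjective _ e.surjective).2 ⟨e.symm y, this, e.apply_symm_apply y⟩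
  let ψ := ((RingHom.quotientKerEquivOfSurjective (redEnd_surjective (A := A) (P := P))).symm.trans
    (Ideal.quotientEquiv _ _ e hJ.symm)).trans (RingHom.quotientKerEquivOfSurjective (redEnd_surjective (A := A) (P := Q)))
  have := finite_quot (A := A) (P := P)
  have := finite_quot (A := A) (P := Q)
  obtain ⟨φ⟩ := nonempty_linearEquiv_of_end ψ
  let φA : (P ⧸ J • (⊤ : Submodule A P)) ≃ₗ[A] Q ⧸ J • (⊤ : Submodule A Q) :=
    { φ.toAddEquiv with
      map_smul' := fun a x => by
        change φ (a • x) = a • φ x
        rw [← mk_smul_quot, map_smul, mk_smul_quot] }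
  obtain ⟨f, hf⟩ := Module.projective_lifting_property (J • (⊤ : Submodule A Q)).mkQ
    (φA.toLinearMap ∘ₗ (J • (⊤ : Submodule A P)).mkQ) (Submodule.mkQ_surjective _)
  obtain ⟨g, hg⟩ := Module.projective_lifting_property (J • (⊤ : Submodule A P)).mkQ
    (φA.symm.toLinearMap ∘ₗ (J • (⊤ : Submodule A Q)).mkQ) (Submodule.mkQ_surjective _)
  have h1 := bijective_of_sub_mem (g ∘ₗ f) fun x => (Submodule.Quotient.eq _).1
    ((LinearMap.congr_fun hg (f x)).trans
      ((congrArg φA.symm (LinearMap.congr_fun hf x)).trans (φA.symm_apply_apply _)))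
  have h2 := bijective_of_sub_mem (f ∘ₗ g) fun x => (Submodule.Quotient.eq _).1
    ((LinearMap.congr_fun hf (g x)).trans
      ((congrArg φA (LinearMap.congr_fun hg x)).trans (φA.apply_symm_apply _)))
  exact ⟨LinearEquiv.ofBijective f ⟨Injective.of_comp h1.1, Surjective.of_comp h2.2⟩⟩

end Groth.Agent.TwShAlg
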